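import Groth.Agent.Semipurity.Supp
import Groth.Agent.EtLC12.MuConst
import Groth.Agent.EtFound.CoprodSections
import Groth.Agent.FibreAcyc.Conn
import Groth.Agent.AzumayaX.SepElement
import Mathlib.CategoryTheory.Sites.CoverLifting
import Mathlib.RingTheory.Flat.Rank
import Mathlib.RingTheory.Polynomial.Cyclotomic.Roots

/-!
# Tate twists are locally constant
-/

set_option autoImplicit false
set_option linter.style.haveILetI false
universe u

open CategoryTheory CategoryTheory.Limits AlgebraicGeometry Opposite TensorProduct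

namespace Groth.Agent.Semipurity

open Groth.Agent.EtFound

set_option backward.isDefEq.respectTransparency.types false

variable {X X' : Scheme.{u}}

/-- multiplication of residue classes -/
noncomputable def tensorZMod (n : ℕ) [NeZero n] : (ZMod n ⊗[ℤ] ZMod n) ≃+ ZMod n where
  toFun := TensorProduct.lift (LinearMap.mul ℤ (ZMod n))
  invFun a := a ⊗ₜ 1
  map_add' := map_add _
  left_inv z := by
    induction z using TensorProduct.induction_on with
    | zero => simp
    | tmul a b =>
      obtain ⟨k, rfl⟩ := ZMod.intCast_surjective b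
      show (a * (k : ZMod n)) ⊗ₜ[ℤ] (1 : ZMod n) = a ⊗ₜ (k : ZMod n)
      rw [show a * (k : ZMod n) = k • a by rw [zsmul_eq_mul, mul_comm], TensorProduct.smul_tmul]
      simp
    | add z w hz hw => simp only [map_add, TensorProduct.add_tmul]; exact congrArg₂ (· + ·) hz hw
  right_inv a := mul_one a

/-- the sheafified tensor product respects isomorphisms -/
noncomputable def tensorAbIso {F F' G G' : EtCoh.Ab X} (a : F ≅ F') (b : G ≅ G') :
    EtDual.tensorAb F G ≅ EtDual.tensorAb F' G' :=
  (presheafToSheaf X.smallEtaleTopology AddCommGrpCat.{u + 1}).mapIso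
    (NatIso.ofComponents (F := EtDual.tensorPre F G) (G := EtDual.tensorPre F' G') (fun U =>
      AddEquiv.toAddCommGrpIso (TensorProduct.congr
        ((((sheafToPresheaf _ _).mapIso a).app U).addCommGroupIsoToAddEquiv).toIntLinearEquiv
        ((((sheafToPresheaf _ _).mapIso b).app U).addCommGroupIsoToAddEquiv).toIntLinearEquiv).toAddEquiv)
      fun {U V} f => by
        refine AddCommGrpCat.ext fun z => ?_
        induction z using TensorProduct.induction_on with
        | zero => exact (map_zero _).trans (map_zero _).symm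
        | tmul s t =>
          show a.hom.hom.app V (F.obj.map f s) ⊗ₜ[ℤ] b.hom.hom.app V (G.obj.map f t) =
            F'.obj.map f (a.hom.hom.app U s) ⊗ₜ[ℤ] G'.obj.map f (b.hom.hom.app U t)
          rw [NatTrans.naturality_apply, NatTrans.naturality_apply]
        | add z w hz hw => exact ((map_add _ _ _).trans (congrArg₂ (· + ·) hz hw)).trans (map_add _ _ _).symm)

section Const

variable (X) (M N : AddCommGrpCat.{u + 1})

/-- the constant sheaf -/
noncomputable abbrev CSh : EtCoh.Ab X :=
  (presheafToSheaf X.smallEtaleTopology AddCommGrpCat.{u + 1}).obj ((Functor.const X.Etaleᵒᵖ).obj M)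

/-- the constant tensors -/
noncomputable def constTensor :
    (Functor.const X.Etaleᵒᵖ).obj (AddCommGrpCat.of (M ⊗[ℤ] N)) ⟶ EtDual.tensorPre (CSh X M) (CSh X N) where
  app U := AddCommGrpCat.ofHom (TensorProduct.map (FibreAcyc.constSec M U.unop).hom.toIntLinearMap
    (FibreAcyc.constSec N U.unop).hom.toIntLinearMap).toAddMonoidHom
  naturality U V f := by
    refine AddCommGrpCat.ext fun z => ?_
    induction z using TensorProduct.induction_on with
    | zero => exact (map_zero _).trans (map_zero _).symm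
    | tmul s t =>
      show FibreAcyc.constSec M V.unop s ⊗ₜ[ℤ] FibreAcyc.constSec N V.unop t =
        (CSh X M).obj.map f (FibreAcyc.constSec M U.unop s) ⊗ₜ[ℤ] (CSh X N).obj.map f (FibreAcyc.constSec N U.unop t)
      exact congrArg₂ (fun a b => a ⊗ₜ[ℤ] b) (FibreAcyc.constSec_map M f.unop s).symm
        (FibreAcyc.constSec_map N f.unop t).symm
    | add z w hz hw => exact ((map_add _ _ _).trans (congrArg₂ (· + ·) hz hw)).trans (map_add _ _ _).symm

variable {X}

theorem exists_retraction (U : X.Etale) (hU : Nonempty U.left) :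
    ∃ r : (CSh X M).obj.obj (op U) →ₗ[ℤ] M, r.comp (FibreAcyc.constSec M U).hom.toIntLinearMap = LinearMap.id := by
  obtain ⟨y⟩ := hU
  obtain ⟨Ω, _, _, ξ, v, -⟩ := exists_point_through U y
  let g := (Scheme.pointSmallEtale ξ).toPresheafFiber U v (CSh X M).obj
  have hb : Function.Bijective (FibreAcyc.constSec M U ≫ g) :=
    toSheafify_const_germ_bijective ξ AddCommGrpCat.{u + 1} M U v
  let E := AddEquiv.ofBijective (FibreAcyc.constSec M U ≫ g).hom hb
  refine ⟨(E.symm.toAddMonoidHom.comp g.hom).toIntLinearMap, LinearMap.ext fun m => ?_⟩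
  exact E.symm_apply_apply m

theorem constTensor_W : X.smallEtaleTopology.W (constTensor X M N) := by
  refine (X.smallEtaleTopology.W_iff_isLocallyBijective _).2 ⟨⟨fun {U} s t hst => ?_⟩, ⟨fun {U} z => ?_⟩⟩
  · rw [mem_topology_iff]
    intro x
    obtain ⟨r, hr⟩ := exists_retraction M U.unop ⟨x⟩
    obtain ⟨r', hr'⟩ := exists_retraction N U.unop ⟨x⟩
    have h := congrArg (TensorProduct.map r r') hst
    have hid : ∀ w : M ⊗[ℤ] N, TensorProduct.map r r' ((constTensor X M N).app U w) = w := fun w => by
      show TensorProduct.map r r' (TensorProduct.map _ _ w) = w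
      rw [← LinearMap.comp_apply, ← TensorProduct.map_comp, hr, hr', TensorProduct.map_id]
      rfl
    obtain rfl : s = t := (hid s).symm.trans (h.trans (hid t))
    exact ⟨U.unop, 𝟙 _, x, rfl, rfl⟩
  · induction z using TensorProduct.induction_on with
    | zero =>
      refine X.smallEtaleTopology.superset_covering (fun V g _ => ?_) (X.smallEtaleTopology.top_mem _)
      exact ⟨0, (map_zero _).trans (map_zero _).symm⟩
    | tmul s t =>
      refine X.smallEtaleTopology.superset_covering (fun V g hg => ?_) (X.smallEtaleTopology.intersection_covering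
        (Presheaf.imageSieve_mem X.smallEtaleTopology (toSheafify _ ((Functor.const X.Etaleᵒᵖ).obj M)) (U := op U) s)
        (Presheaf.imageSieve_mem X.smallEtaleTopology (toSheafify _ ((Functor.const X.Etaleᵒᵖ).obj N)) (U := op U) t))
      obtain ⟨⟨m, hm⟩, ⟨k, hk⟩⟩ := hg
      exact ⟨m ⊗ₜ k, congrArg₂ (fun a b => a ⊗ₜ[ℤ] b) hm hk⟩
    | add z w hz hw =>
      refine X.smallEtaleTopology.superset_covering (fun V g hg => ?_)
        (X.smallEtaleTopology.intersection_covering hz hw)
      obtain ⟨⟨a, ha⟩, ⟨b, hb⟩⟩ := hg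
      exact ⟨a + b, (map_add _ _ _).trans ((congrArg₂ (· + ·) ha hb).trans (map_add _ _ _).symm)⟩

theorem nonempty_tensor_const_iso :
    Nonempty (EtDual.tensorAb (CSh X M) (CSh X N) ≅ CSh X (AddCommGrpCat.of (M ⊗[ℤ] N))) := by
  have h := constTensor_W (X := X) M N
  rw [X.smallEtaleTopology.W_iff] at h
  exact ⟨(@asIso _ _ _ _ _ h).symm⟩

end Const

section Restr

variable (e : X' ⟶ X) [AlgebraicGeometry.Etale e]

theorem compEtale_cocontinuous :
    (EtShriek.compEtale e).IsCocontinuous X'.smallEtaleTopology X.smallEtaleTopology := by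
  refine ⟨fun {V} S hS => ?_⟩
  rw [mem_topology_iff] at hS ⊢
  intro x
  obtain ⟨W, g, w, hg, hw⟩ := hS x
  let g₀ : W.left ⟶ V.left := g.left
  have hw' : g₀ ≫ V.hom ≫ e = W.hom := MorphismProperty.Over.w g
  haveI : AlgebraicGeometry.Etale ((g₀ ≫ V.hom) ≫ e) := by
    rw [Category.assoc, hw']; exact W.prop
  haveI : AlgebraicGeometry.Etale (g₀ ≫ V.hom) := AlgebraicGeometry.Etale.of_comp (g₀ ≫ V.hom) e
  let W' : X'.Etale := Scheme.Etale.mk (g₀ ≫ V.hom)
  let g' : W' ⟶ V := MorphismProperty.Over.homMk g₀ rfl trivial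
  refine ⟨W', g', w, ?_, hw⟩
  let i : (EtShriek.compEtale e).obj W' ⟶ W :=
    MorphismProperty.Over.homMk (𝟙 W.left) ((Category.id_comp _).trans (hw'.symm.trans (Category.assoc _ _ _).symm))
      trivial
  have : (EtShriek.compEtale e).map g' = i ≫ g := MorphismProperty.Over.Hom.ext (Category.id_comp _).symm
  show S ((EtShriek.compEtale e).map g')
  rw [this]
  exact S.downward_closed hg i

variable [EtShriek.JCont e]

theorem nonempty_restr_tensor_iso (F G : EtCoh.Ab X) :
    Nonempty ((EtShriek.restrAlong e).obj (EtDual.tensorAb F G) ≅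
      EtDual.tensorAb ((EtShriek.restrAlong e).obj F) ((EtShriek.restrAlong e).obj G)) := by
  haveI := compEtale_cocontinuous e
  exact ⟨(((EtShriek.compEtale e).pushforwardContinuousSheafificationCompatibility AddCommGrpCat.{u + 1}
    X'.smallEtaleTopology X.smallEtaleTopology).app (EtDual.tensorPre F G)).symm ≪≫
    (presheafToSheaf X'.smallEtaleTopology AddCommGrpCat.{u + 1}).mapIso
      (NatIso.ofComponents (F := (EtShriek.compEtale e).op ⋙ EtDual.tensorPre F G)
        (G := EtDual.tensorPre ((EtShriek.restrAlong e).obj F) ((EtShriek.restrAlong e).obj G))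
        (fun _ => Iso.refl _) (fun _ => (Category.comp_id _).trans (Category.id_comp _).symm))⟩

/-- units restrict to units -/
noncomputable def restrGm : (EtShriek.restrAlong e).obj (EtCoh.Gm X) ≅ EtCoh.Gm X' :=
  (fullyFaithfulSheafToPresheaf _ _).preimageIso
    (NatIso.ofComponents (fun _ => Iso.refl _) (fun _ => (Category.comp_id _).trans (Category.id_comp _).symm))

theorem nonempty_restr_mu_iso (n : ℕ) :
    Nonempty ((EtShriek.restrAlong e).obj (EtCoh.mu X n) ≅ EtCoh.mu X' n) := by
  obtain ⟨h1, h2, h3, -⟩ := restr_exact e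
  refine ⟨PreservesKernel.iso (EtShriek.restrAlong e) (EtCoh.powMap X n) ≪≫
    kernel.mapIso _ _ (restrGm e) (restrGm e) ?_⟩
  show (EtShriek.restrAlong e).map (n • 𝟙 _) ≫ _ = _ ≫ (n • 𝟙 _)
  rw [Functor.map_nsmul, CategoryTheory.Functor.map_id, Preadditive.nsmul_comp, Preadditive.comp_nsmul,
    Category.id_comp, Category.comp_id]

theorem nonempty_restr_const_iso (M : Type) [AddCommGroup M] :
    Nonempty ((EtShriek.restrAlong e).obj (EtCoh.const X M) ≅ EtCoh.const X' M) :=
  ⟨(restrPullIso e).app _ ≪≫ EtCore.pullConst e M⟩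

theorem nonempty_restr_tate_iso (n c : ℕ) :
    Nonempty ((EtShriek.restrAlong e).obj (EtDual.tate X n c) ≅ EtDual.tate X' n c) := by
  induction c with
  | zero => exact nonempty_restr_const_iso e (ZMod n)
  | succ c ih =>
    obtain ⟨a⟩ := ih
    obtain ⟨b⟩ := nonempty_restr_mu_iso e n
    obtain ⟨t⟩ := nonempty_restr_tensor_iso e (EtDual.tate X n c) (EtCoh.mu X n)
    exact ⟨t ≪≫ tensorAbIso a b⟩

end Restr

/-- with a root of unity the Tate twists are constant -/
theorem nonempty_tate_iso_const (n c : ℕ) [NeZero n] (h : Nonempty (EtCoh.mu X n ≅ EtCoh.const X (ZMod n))) :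
    Nonempty (EtDual.tate X n c ≅ EtCoh.const X (ZMod n)) := by
  induction c with
  | zero => exact ⟨Iso.refl _⟩
  | succ c ih =>
    obtain ⟨a⟩ := ih
    obtain ⟨b⟩ := h
    let M : AddCommGrpCat.{u + 1} := AddCommGrpCat.of (ULift.{u + 1} (ZMod n))
    obtain ⟨t⟩ := nonempty_tensor_const_iso (X := X) M M
    exact ⟨tensorAbIso a b ≪≫ t ≪≫
      (constantSheaf X.smallEtaleTopology AddCommGrpCat.{u + 1}).mapIso (AddEquiv.toAddCommGrpIso
        (((TensorProduct.congr AddEquiv.ulift.toIntLinearEquiv AddEquiv.ulift.toIntLinearEquiv).toAddEquiv.trans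
          (tensorZMod n)).trans AddEquiv.ulift.symm))⟩

/-- a scheme on which zero is invertible is empty -/
theorem isEmpty_of_isUnit_zero (h : IsUnit ((0 : ℕ) : Γ(X, ⊤))) : IsEmpty X := by
  refine ⟨fun x => ?_⟩
  have := h.map (X.presheaf.germ ⊤ x trivial).hom
  rw [map_natCast, Nat.cast_zero] at this
  exact not_isUnit_zero this

/-- all sheaves on an empty scheme vanish -/
theorem isZero_of_isEmpty [IsEmpty X] (F : EtCoh.Ab X) : IsZero F :=
  (isZero_iff_stalks F).2 fun _ _ _ ξ => (IsEmpty.false (ξ.base default)).elim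

/-- roots of unity exist étale locally -/
theorem exists_root_nhd {n : ℕ} [NeZero n] (hn : IsUnit (n : Γ(X, ⊤))) (x : X) :
    ∃ (X' : Scheme.{u}) (e : X' ⟶ X) (_ : AlgebraicGeometry.Etale e),
      x ∈ Set.range e.base ∧ Nonempty (EtCoh.mu X' n ≅ EtCoh.const X' (ZMod n)) := by
  obtain ⟨i, a, ha⟩ := X.affineCover.exists_eq x
  obtain ⟨A, hA⟩ : ∃ A : CommRingCat.{u}, ∃ ι : Spec A ⟶ X, IsOpenImmersion ι ∧ x ∈ Set.range ι.base :=
    ⟨_, X.affineCover.f i, X.affineCover.map_prop i, a, ha⟩
  obtain ⟨ι, hι, hx⟩ := hA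
  have hnA : IsUnit (n : A) := by
    have := hn.map ((ι.appTop ≫ (Scheme.ΓSpecIso A).hom).hom)
    rwa [map_natCast] at this
  let P : Polynomial A := Polynomial.cyclotomic n A
  have hPm : P.Monic := Polynomial.cyclotomic.monic n A
  have hsep : P.Separable := by
    have hX : (Polynomial.X ^ n - 1 : Polynomial A).Separable := by
      obtain ⟨v, hv⟩ := hnA.exists_left_inv
      refine ⟨-1, Polynomial.C v * Polynomial.X, ?_⟩
      rw [Polynomial.derivative_sub, Polynomial.derivative_one, sub_zero, Polynomial.derivative_X_pow]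
      have : Polynomial.C v * Polynomial.X * (Polynomial.C (n : A) * Polynomial.X ^ (n - 1)) = Polynomial.X ^ n := by
        rw [mul_mul_mul_comm, ← Polynomial.C_mul, hv, Polynomial.C_1, one_mul, ← pow_succ',
          Nat.sub_add_cancel (NeZero.pos n)]
      rw [this]
      ring
    exact hX.of_dvd (Polynomial.cyclotomic.dvd_X_pow_sub_one n A)
  let B := AdjoinRoot P
  haveI : Algebra.Etale A B := AzumayaX.etale_adjoinRoot hPm hsep
  let q : Spec (CommRingCat.of B) ⟶ Spec A := Spec.map (CommRingCat.ofHom (algebraMap A B))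
  haveI : AlgebraicGeometry.Etale q :=
    (HasRingHomProperty.Spec_iff (P := @AlgebraicGeometry.Etale)).2 (RingHom.etale_algebraMap.mpr ‹_›)
  haveI : AlgebraicGeometry.Etale (q ≫ ι) := inferInstance
  have hsurj : Function.Surjective (PrimeSpectrum.comap (algebraMap A B)) := by
    haveI : Module.Finite A B := hPm.finite_adjoinRoot
    haveI : Module.Free A B := hPm.free_adjoinRoot
    haveI : Module.Flat A B := Module.Flat.of_free
    refine PrimeSpectrum.comap_surjective_iff_injective_of_finite.2 ?_
    rcases subsingleton_or_nontrivial A with hA | hA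
    · exact fun _ _ _ => Subsingleton.elim _ _
    · refine (injective_iff_map_eq_zero _).2 fun a ha => ?_
      by_contra h
      refine hPm.not_dvd_of_degree_lt (Polynomial.C_ne_zero.2 h) ?_ (AdjoinRoot.mk_eq_zero.1 ha)
      rw [Polynomial.degree_C h, Polynomial.degree_cyclotomic]
      exact_mod_cast Nat.totient_pos.2 (NeZero.pos n)
  refine ⟨Spec (CommRingCat.of B), q ≫ ι, ‹_›, ?_, ?_⟩
  · obtain ⟨z, rfl⟩ := hx
    obtain ⟨w, rfl⟩ := hsurj z
    exact ⟨w, Scheme.Hom.comp_apply _ _ _⟩
  · let g := (Scheme.ΓSpecIso (CommRingCat.of B)).inv.hom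
    refine EtLC12.MuConst.nonempty_mu_iso_const (?_) (g (AdjoinRoot.root P)) ?_
    · have := hn.map (q ≫ ι).appTop.hom
      rwa [map_natCast] at this
    · have h0 : Polynomial.aeval (AdjoinRoot.root P) (Polynomial.cyclotomic n ℤ) = 0 := by
        rw [Polynomial.aeval_def, ← Polynomial.eval_map, Polynomial.map_cyclotomic]
        have h := AdjoinRoot.eval₂_root P
        rwa [Polynomial.eval₂_eq_eval_map, Polynomial.map_cyclotomic] at h
      exact (Polynomial.aeval_algHom_apply g.toIntAlgHom _ _).trans ((congrArg g h0).trans (map_zero g))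

end Groth.Agent.Semipurity
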