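import Groth.Agent.Semipurity.Tate
import Mathlib.Algebra.Homology.HomologicalComplexAbelian
import Mathlib.Algebra.Homology.HomologySequence

/-!
# Semipurity: cohomology with supports in the first nonvanishing degree
-/

set_option autoImplicit false
set_option linter.style.haveILetI false
universe u

open CategoryTheory CategoryTheory.Limits AlgebraicGeometry Opposite

namespace Groth.Agent.Semipurity

open Groth.Agent.EtFound

set_option backward.isDefEq.respectTransparency.types false

variable {X : Scheme.{u}}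

/-- a sheaf vanishing after restriction to an étale neighbourhood of each point vanishes -/
theorem isZero_of_locally (L : EtCoh.Ab X)
    (h : ∀ x : X, ∃ (X' : Scheme.{u}) (e : X' ⟶ X),
      x ∈ Set.range e.base ∧ IsZero ((EtCoh.pull e).obj L)) : IsZero L := by
  refine (isZero_iff_stalks L).2 fun Ω _ _ ξ => ?_
  obtain ⟨X', e, hx, hL⟩ := h (ξ.base default)
  obtain ⟨k, _, _, z, eΩ, hz⟩ := exists_lift_extension e ξ hx
  have h1 : IsZero ((EtCoh.stalk (z ≫ e)).obj L) :=
    ((EtCoh.stalk z).map_isZero hL).of_iso ((sheafFiberPullIso (A := AddCommGrpCat.{u + 1}) e z).app L).symm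
  rw [← hz] at h1
  exact h1.of_iso ((stalkExtIso AddCommGrpCat.{u + 1} ξ eΩ).app L)

/-- local cohomology of the Tate twists vanishes with that of the constant sheaf -/
theorem isZero_locCoh_tate {U : Scheme.{u}} (j : U ⟶ X) [IsOpenImmersion j] (n : ℕ) [NeZero n]
    (hn : IsUnit (n : Γ(X, ⊤))) (c p : ℕ) (h : IsZero ((EtDual.locCoh j p).obj (EtCoh.const X (ZMod n)))) :
    IsZero ((EtDual.locCoh j p).obj (EtDual.tate X n c)) := by
  refine isZero_of_locally _ fun x => ?_
  obtain ⟨X', e, he, hx, hmu⟩ := exists_root_nhd hn x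
  haveI := jCont e
  refine ⟨X', e, hx, ?_⟩
  let O : X'.Opens := e ⁻¹ᵁ j.opensRange
  have hO : Set.range O.ι.base = e.base ⁻¹' Set.range j.base := Scheme.Opens.range_ι O
  obtain ⟨a⟩ := nonempty_locCoh_restr_iso e j O.ι hO (EtDual.tate X n c) p
  obtain ⟨b⟩ := nonempty_locCoh_restr_iso e j O.ι hO (EtCoh.const X (ZMod n)) p
  obtain ⟨t⟩ := nonempty_restr_tate_iso e n c
  obtain ⟨t'⟩ := nonempty_tate_iso_const n c hmu
  obtain ⟨t''⟩ := nonempty_restr_const_iso e (ZMod n)
  haveI : (EtDual.locCoh O.ι p).Additive := by delta EtDual.locCoh; infer_instance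
  refine IsZero.of_iso ?_ (((restrPullIso e).app _).symm ≪≫ a ≪≫
    (EtDual.locCoh O.ι p).mapIso (t ≪≫ t' ≪≫ t''.symm) ≪≫ b.symm)
  haveI := (restr_exact e).2.2.1
  exact (EtShriek.restrAlong e).map_isZero h

/-- cohomology with supports is the sections of the first nonvanishing local cohomology sheaf -/
theorem nonempty_HY_iso_sections {U : Scheme.{u}} (j : U ⟶ X) [IsOpenImmersion j] (F : EtCoh.Ab X) (m : ℕ)
    (h : ∀ p, p < m → IsZero ((EtDual.locCoh j p).obj F)) :
    Nonempty ((EtDual.HY j m).obj F ≅ ((EtDual.locCoh j m).obj F).obj.obj (op (EtCoh.top X))) := by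
  haveI := secSupp_preservesInjectiveObjects j
  haveI : PreservesFiniteLimits (evalAt (EtCoh.top X)) := inferInstance
  exact nonempty_rightDerived_comp_iso (EtDual.secSupp j) (evalAt (EtCoh.top X)) F m h

section Off

variable {X' U : Scheme.{u}} (j : U ⟶ X) [IsOpenImmersion j] (k : X' ⟶ X) [IsOpenImmersion k]
  [EtShriek.JCont k] (hU : Set.range j.base ⊆ Set.range k.base)

omit [EtShriek.JCont k] in
include hU in
theorem ι_comp_unit_of_subset (F : EtCoh.Ab X) : kernel.ι (EtDual.unitApp k F) ≫ EtDual.unitApp j F = 0 := by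
  refine Sheaf.hom_ext (NatTrans.ext (funext fun W => AddCommGrpCat.ext fun t => ?_))
  refine (unit_app_eq_zero_iff j F W.unop ((kernel.ι (EtDual.unitApp k F)).hom.app (op W.unop) t)).2 fun V g hV => ?_
  exact (unit_app_eq_zero_iff k F W.unop _).1 ((exists_secSupp_iff k F _ _).1 ⟨t, rfl⟩) V g (hV.trans hU)

/-- smaller supports -/
noncomputable def suppIncl : EtDual.secSupp k ⟶ EtDual.secSupp j where
  app F := kernel.lift _ (kernel.ι (EtDual.unitApp k F)) (ι_comp_unit_of_subset j k hU F)
  naturality F G a := by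
    rw [← cancel_mono (kernel.ι (EtDual.unitApp j G))]
    refine ((Category.assoc _ _ _).trans (congrArg (_ ≫ ·) (kernel.lift_ι _ _ _))).trans ?_
    refine (secSupp_map_ι k a).trans ?_
    refine Eq.trans ?_ ((congrArg (_ ≫ ·) (secSupp_map_ι j a)).symm.trans (Category.assoc _ _ _).symm)
    exact ((congrArg (· ≫ a) (kernel.lift_ι _ _ _)).symm.trans (Category.assoc _ _ _))

theorem suppIncl_apply (F : EtCoh.Ab X) (W : X.Etale) (t : ((EtDual.secSupp k).obj F).obj.obj (op W)) :
    (kernel.ι (EtDual.unitApp j F)).hom.app (op W) (((suppIncl j k hU).app F).hom.app (op W) t) =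
      (kernel.ι (EtDual.unitApp k F)).hom.app (op W) t :=
  ConcreteCategory.congr_hom (congrArg (fun m : (EtDual.secSupp k).obj F ⟶ F => m.hom.app (op W))
    (kernel.lift_ι (EtDual.unitApp j F) (kernel.ι (EtDual.unitApp k F)) (ι_comp_unit_of_subset j k hU F))) t

/-- the open as an object of the site -/
noncomputable abbrev openObj : X.Etale := (EtShriek.compEtale k).obj (EtCoh.top X')

/-- restriction to the open -/
noncomputable def resOpen : evalAt (EtCoh.top X) ⟶ evalAt (openObj k) :=
  Functor.whiskerLeft (sheafToPresheaf _ _) ((evaluation X.Etaleᵒᵖ AddCommGrpCat.{u + 1}).map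
    ((EtCore.topIsTerminal X).from (openObj k)).op)

omit [EtShriek.JCont k] in
theorem map_eq_zero_iff_unit (F : EtCoh.Ab X) (s : F.obj.obj (op (EtCoh.top X))) :
    (EtDual.unitApp k F).hom.app (op (EtCoh.top X)) s = 0 ↔
      F.obj.map ((EtCore.topIsTerminal X).from (openObj k)).op s = 0 := by
  rw [unit_app_eq_zero_iff k]
  refine ⟨fun h => h _ _ ?_, fun h V g hV => ?_⟩
  · rintro _ ⟨v, rfl⟩
    exact ⟨v, (congrArg (fun m : X' ⟶ X => m.base v) (Category.id_comp k)).symm⟩
  · let v₀ : V.left ⟶ X := V.hom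
    let l₀ : V.left ⟶ X' := IsOpenImmersion.lift k v₀ hV
    let l : V ⟶ openObj k := MorphismProperty.Over.homMk l₀
      ((congrArg (l₀ ≫ ·) (Category.id_comp k)).trans (IsOpenImmersion.lift_fac k v₀ hV)) trivial
    rw [(EtCore.topIsTerminal X).hom_ext g (l ≫ (EtCore.topIsTerminal X).from (openObj k)), op_comp,
      Functor.map_comp, ConcreteCategory.comp_apply, h, map_zero]

/-- the three functors -/
noncomputable abbrev suppA : EtCoh.Ab X ⥤ AddCommGrpCat.{u + 1} := EtDual.secSupp k ⋙ evalAt (EtCoh.top X)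

noncomputable abbrev suppB : EtCoh.Ab X ⥤ AddCommGrpCat.{u + 1} := EtDual.secSupp j ⋙ evalAt (EtCoh.top X)

noncomputable abbrev suppC : EtCoh.Ab X ⥤ AddCommGrpCat.{u + 1} := EtDual.secSupp j ⋙ evalAt (openObj k)

noncomputable def mapAB : suppA k ⟶ suppB j := Functor.whiskerRight (suppIncl j k hU) _

noncomputable def mapBC : suppB j ⟶ suppC j k := Functor.whiskerLeft _ (resOpen k)

theorem mapAB_mapBC (F : EtCoh.Ab X) : (mapAB j k hU).app F ≫ (mapBC j k).app F = 0 := by
  refine AddCommGrpCat.ext fun t => ι_app_injective j F (openObj k) ?_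
  refine Eq.trans ?_ (map_zero ((kernel.ι (EtDual.unitApp j F)).hom.app (op (openObj k))).hom).symm
  show (kernel.ι (EtDual.unitApp j F)).hom.app _ (((EtDual.secSupp j).obj F).obj.map _
    (((suppIncl j k hU).app F).hom.app (op (EtCoh.top X)) t)) = 0
  rw [NatTrans.naturality_apply, suppIncl_apply]
  exact (map_eq_zero_iff_unit k F _).1 ((exists_secSupp_iff k F _ _).1 ⟨t, rfl⟩)

theorem shortExact_app (I : EtCoh.Ab X) [Injective I] :
    (ShortComplex.mk _ _ (mapAB_mapBC j k hU I)).ShortExact := by
  refine { exact := (ShortComplex.ab_exact_iff _).2 fun s hs => ?_, mono_f := ?_, epi_g := ?_ }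
  · let s' := (kernel.ι (EtDual.unitApp j I)).hom.app (op (EtCoh.top X)) s
    have h0 : I.obj.map ((EtCore.topIsTerminal X).from (openObj k)).op s' = 0 := by
      show I.obj.map _ ((kernel.ι (EtDual.unitApp j I)).hom.app _ s) = 0
      rw [← NatTrans.naturality_apply]
      exact (congrArg _ hs).trans (map_zero _)
    obtain ⟨t, ht⟩ := (exists_secSupp_iff k I _ _).2 ((map_eq_zero_iff_unit k I s').2 h0)
    exact ⟨t, ι_app_injective j I _ ((suppIncl_apply j k hU I _ t).trans ht)⟩
  · refine (AddCommGrpCat.mono_iff_injective _).2 fun a b h => ι_app_injective k I _ ?_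
    exact (suppIncl_apply j k hU I _ a).symm.trans ((congrArg _ h).trans (suppIncl_apply j k hU I _ b))
  · refine (AddCommGrpCat.epi_iff_surjective _).2 fun t => ?_
    let t' := (kernel.ι (EtDual.unitApp j I)).hom.app (op (openObj k)) t
    obtain ⟨s', hs'⟩ := surjective_map_of_injective k I ((EtCore.topIsTerminal X).from (openObj k)) t'
    have h0 : (EtDual.unitApp j I).hom.app (op (EtCoh.top X)) s' = 0 := by
      refine (unit_app_eq_zero_iff j I _ s').2 fun V g hV => ?_
      let v₀ : V.left ⟶ X := V.hom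
      let l₀ : V.left ⟶ X' := IsOpenImmersion.lift k v₀ (hV.trans hU)
      let l : V ⟶ openObj k := MorphismProperty.Over.homMk l₀
        ((congrArg (l₀ ≫ ·) (Category.id_comp k)).trans (IsOpenImmersion.lift_fac k v₀ (hV.trans hU))) trivial
      rw [(EtCore.topIsTerminal X).hom_ext g (l ≫ (EtCore.topIsTerminal X).from (openObj k)), op_comp,
        Functor.map_comp, ConcreteCategory.comp_apply, hs']
      exact (unit_app_eq_zero_iff j I _ _).1 ((exists_secSupp_iff j I _ _).1 ⟨t, rfl⟩) V l hV
    obtain ⟨s, hs⟩ := (exists_secSupp_iff j I _ s').2 h0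
    refine ⟨s, ι_app_injective j I _ ?_⟩
    show (kernel.ι (EtDual.unitApp j I)).hom.app _ (((EtDual.secSupp j).obj I).obj.map _ s) = t'
    rw [NatTrans.naturality_apply, hs, hs']

include hU in
/-- cohomology with supports does not see a closed subset with vanishing local cohomology -/
theorem nonempty_rightDerived_iso_off (F : EtCoh.Ab X) (m : ℕ)
    (h : ∀ p, p ≤ m + 1 → IsZero ((EtDual.locCoh k p).obj F)) :
    Nonempty (((suppB j).rightDerived m).obj F ≅ ((suppC j k).rightDerived m).obj F) := by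
  haveI := secSupp_preservesInjectiveObjects k
  haveI : PreservesFiniteLimits (evalAt (EtCoh.top X)) := inferInstance
  let I := injectiveResolution F
  let K := I.cocomplex
  let c := ComplexShape.up ℕ
  let S : ShortComplex (CochainComplex AddCommGrpCat.{u + 1} ℕ) :=
    ShortComplex.mk ((NatTrans.mapHomologicalComplex (mapAB j k hU) c).app K)
      ((NatTrans.mapHomologicalComplex (mapBC j k) c).app K)
      (HomologicalComplex.hom_ext _ _ fun i => mapAB_mapBC j k hU (K.X i))
  have hS : S.ShortExact := HomologicalComplex.shortExact_of_degreewise_shortExact S fun i =>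
    haveI : Injective (K.X i) := I.injective i
    shortExact_app j k hU (K.X i)
  have hz : ∀ p, p ≤ m + 1 → IsZero (S.X₁.homology p) := fun p hp =>
    (isZero_rightDerived_comp (EtDual.secSupp k) (evalAt (EtCoh.top X)) F p fun q hq => h q (hq.trans hp)).of_iso
      (I.isoRightDerivedObj (suppA k) p).symm
  haveI : Mono (HomologicalComplex.homologyMap S.g m) :=
    (hS.homology_exact₂ m).mono_g ((hz m (by omega)).eq_of_src _ _)
  haveI : Epi (HomologicalComplex.homologyMap S.g m) :=
    (hS.homology_exact₃ m (m + 1) (by simp)).epi_f ((hz (m + 1) le_rfl).eq_of_tgt _ _)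
  have hi : IsIso (HomologicalComplex.homologyMap S.g m) := isIso_of_mono_of_epi _
  exact ⟨I.isoRightDerivedObj (suppB j) m ≪≫ @asIso _ _ _ _ (HomologicalComplex.homologyMap S.g m) hi ≪≫
    (I.isoRightDerivedObj (suppC j k) m).symm⟩

/-- the sections over the open compute the cohomology with supports there -/
theorem nonempty_suppC_iso (j' : U ⟶ X') [IsOpenImmersion j'] (hU' : Set.range j'.base = k.base ⁻¹' Set.range j.base)
    (F : EtCoh.Ab X) (m : ℕ) :
    Nonempty (((suppC j k).rightDerived m).obj F ≅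
      (EtDual.HY j' m).obj ((EtShriek.restrAlong k).obj F)) := by
  obtain ⟨h1, h2, h3, h4⟩ := restr_exact k
  obtain ⟨i⟩ := nonempty_restr_secSupp_iso k j j' hU'
  let e : suppC j k ≅ EtShriek.restrAlong k ⋙ EtDual.gammaSupp j' :=
    (Functor.isoWhiskerRight i (evalAt (EtCoh.top X')) : (EtDual.secSupp j ⋙ EtShriek.restrAlong k) ⋙
      evalAt (EtCoh.top X') ≅ (EtShriek.restrAlong k ⋙ EtDual.secSupp j') ⋙ evalAt (EtCoh.top X'))
  exact ⟨(SiteBase.rightDerivedCongr e m).app F ≪≫
    (SiteBase.rightDerivedPrecompIso (EtShriek.restrAlong k) (EtDual.gammaSupp j') m).app F⟩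

end Off

end Groth.Agent.Semipurity
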