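import Mathlib.Algebra.Homology.ShortComplex.PreservesHomology
import Mathlib.Algebra.Homology.ShortComplex.HomologicalComplex
import Mathlib.Algebra.Homology.Additive
import Mathlib.CategoryTheory.Abelian.RightDerived
import Mathlib.CategoryTheory.Preadditive.Injective.Preserves

/-!
# The first nonvanishing derived functor under a left exact functor
-/

set_option autoImplicit false
set_option linter.style.haveILetI false

universe v v' v'' u u' u''

open CategoryTheory CategoryTheory.Limits

namespace Groth.Agent.Semipurity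

variable {B : Type u} [Category.{v} B] [Abelian B] {D : Type u'} [Category.{v'} D] [Abelian D]

/-- additive functors preserve cokernels of morphisms with a generalized inverse -/
theorem preservesColimit_of_regular (G : B ⥤ D) [G.Additive] {P Q : B} (f : P ⟶ Q) (r : Q ⟶ P)
    (h : f ≫ r ≫ f = f) : PreservesColimit (parallelPair f 0) G := by
  let π := cokernel.π f
  let σ : cokernel f ⟶ Q := cokernel.desc f (𝟙 Q - r ≫ f)
    (by rw [Preadditive.comp_sub, Category.comp_id, h, sub_self])
  have hσ : π ≫ σ = 𝟙 Q - r ≫ f := cokernel.π_desc _ _ _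
  haveI : Epi (G.map π) := by
    have hs : σ ≫ π = 𝟙 _ := by
      rw [← cancel_epi π, ← Category.assoc, hσ, Preadditive.sub_comp, Category.id_comp, Category.assoc,
        cokernel.condition, comp_zero, sub_zero, Category.comp_id]
    exact (SplitEpi.mk (G.map σ) (by rw [← G.map_comp, hs, G.map_id])).epi
  refine preservesColimit_of_preserves_colimit_cocone (cokernelIsCokernel f) ?_
  refine (CokernelCofork.isColimitMapCoconeEquiv _ G).symm ?_
  refine CokernelCofork.IsColimit.ofπ _ (by rw [← G.map_comp]; exact (congrArg G.map (cokernel.condition f)).trans (G.map_zero _ _))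
    (fun {T} φ _ => G.map σ ≫ φ) (fun {T} φ hφ => ?_) fun {T} φ hφ ψ hψ => ?_
  · show G.map π ≫ G.map σ ≫ φ = φ
    rw [← Category.assoc, ← G.map_comp, hσ, G.map_sub, G.map_id, G.map_comp, Preadditive.sub_comp, Category.id_comp,
      Category.assoc, hφ, comp_zero, sub_zero]
  · rw [← cancel_epi (G.map π)]
    refine hψ.trans ?_
    show φ = G.map π ≫ G.map σ ≫ φ
    rw [← Category.assoc, ← G.map_comp, hσ, G.map_sub, G.map_id, G.map_comp, Preadditive.sub_comp, Category.id_comp,
      Category.assoc, hφ, comp_zero, sub_zero]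

variable (K : CochainComplex B ℕ) [∀ p, Injective (K.X p)]

/-- below the first nonvanishing degree the maps to the cycles have generalized inverses -/
theorem exists_regular (p : ℕ) (h : ∀ q, q < p → K.ExactAt q) :
    ∃ r, (K.sc p).toCycles ≫ r ≫ (K.sc p).toCycles = (K.sc p).toCycles := by
  induction p with
  | zero =>
    refine ⟨0, ?_⟩
    have : (K.sc 0).f = 0 := K.shape _ _ (by simp)
    rw [zero_comp, comp_zero, ← cancel_mono (K.sc 0).iCycles, zero_comp, ShortComplex.toCycles_i, this]
  | succ p ih =>
    obtain ⟨r, hr⟩ := ih fun q hq => h q (by omega)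
    haveI : Epi (K.sc p).toCycles := (h p (by omega)).epi_toCycles
    have hr1 : r ≫ (K.sc p).toCycles = 𝟙 _ := by
      rw [← cancel_epi (K.sc p).toCycles, hr, Category.comp_id]
    haveI : Injective (K.sc p).cycles := by
      haveI : Injective (K.sc p).X₁ := inferInstanceAs (Injective (K.X _))
      exact (Retract.mk r (K.sc p).toCycles hr1).injective
    let ι : (K.cycles p) ⟶ K.X p := K.iCycles p
    haveI : Mono ι := inferInstanceAs (Mono (K.iCycles p))
    haveI : Injective (K.cycles p) := ‹Injective (K.sc p).cycles›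
    let ρ : K.X p ⟶ K.cycles p := Injective.factorThru (𝟙 _) ι
    have hρ : ι ≫ ρ = 𝟙 _ := Injective.comp_factorThru _ _
    let S : ShortComplex B := ShortComplex.mk ι (K.d p (p + 1)) (K.iCycles_d p (p + 1))
    have hS : S.Exact := S.exact_of_f_is_kernel (K.cyclesIsKernel p (p + 1) (by simp))
    let e : K.X p ⟶ K.X p := 𝟙 _ - ρ ≫ ι
    have he : S.f ≫ e = 0 := by
      show ι ≫ (𝟙 _ - ρ ≫ ι) = 0
      rw [Preadditive.comp_sub, Category.comp_id, ← Category.assoc, hρ, Category.id_comp, sub_self]
    haveI : Mono S.f := ‹Mono ι›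
    haveI : Injective (K.X p) := inferInstance
    let r' : K.X (p + 1) ⟶ K.X p := hS.descToInjective e he
    have hr' : K.d p (p + 1) ≫ r' = e := hS.comp_descToInjective e he
    have hprev : (ComplexShape.up ℕ).prev (p + 1) = p := CochainComplex.prev_nat_succ p
    refine ⟨(K.sc (p + 1)).iCycles ≫ r' ≫ (K.XIsoOfEq hprev).inv, ?_⟩
    rw [← cancel_mono (K.sc (p + 1)).iCycles]
    simp only [Category.assoc, ShortComplex.toCycles_i, ShortComplex.toCycles_i_assoc]
    show K.d ((ComplexShape.up ℕ).prev (p + 1)) (p + 1) ≫ r' ≫ (K.XIsoOfEq hprev).inv ≫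
      K.d ((ComplexShape.up ℕ).prev (p + 1)) (p + 1) = K.d ((ComplexShape.up ℕ).prev (p + 1)) (p + 1)
    rw [K.XIsoOfEq_inv_comp_d, ← K.XIsoOfEq_hom_comp_d hprev, Category.assoc, reassoc_of% hr']
    refine congrArg ((K.XIsoOfEq hprev).hom ≫ ·) ?_
    show (𝟙 _ - ρ ≫ K.iCycles p) ≫ K.d p (p + 1) = _
    rw [Preadditive.sub_comp, Category.id_comp, Category.assoc, K.iCycles_d, comp_zero, sub_zero]

/-- left exact functors compute the first nonvanishing cohomology of a complex of injectives -/
theorem nonempty_homology_iso (G : B ⥤ D) [G.Additive] [PreservesFiniteLimits G] (p : ℕ)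
    (h : ∀ q, q < p → K.ExactAt q) :
    Nonempty (((G.mapHomologicalComplex _).obj K).homology p ≅ G.obj (K.homology p)) := by
  obtain ⟨r, hr⟩ := exists_regular K p h
  let d := (K.sc p).leftHomologyData
  haveI : d.IsPreservedBy G :=
    { g := inferInstance
      f' := preservesColimit_of_regular G (K.sc p).toCycles r hr }
  exact ⟨(d.map G).homologyIso ≪≫ G.mapIso d.homologyIso.symm⟩

variable {A : Type u''} [Category.{v''} A] [Abelian A] [EnoughInjectives A]

/-- the first nonvanishing derived functor of a composite -/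
theorem nonempty_rightDerived_comp_iso (S : A ⥤ B) [S.Additive] [S.PreservesInjectiveObjects]
    (G : B ⥤ D) [G.Additive] [PreservesFiniteLimits G] (F : A) (p : ℕ)
    (h : ∀ q, q < p → IsZero ((S.rightDerived q).obj F)) :
    Nonempty (((S ⋙ G).rightDerived p).obj F ≅ G.obj ((S.rightDerived p).obj F)) := by
  let I := injectiveResolution F
  let K : CochainComplex B ℕ := (S.mapHomologicalComplex _).obj I.cocomplex
  haveI : ∀ q, Injective (K.X q) := fun q => Functor.PreservesInjectiveObjects.injective_obj (I.injective q)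
  have hK : ∀ q, q < p → K.ExactAt q := fun q hq =>
    (K.exactAt_iff_isZero_homology q).2 ((h q hq).of_iso (I.isoRightDerivedObj S q).symm)
  obtain ⟨e⟩ := nonempty_homology_iso K G p hK
  exact ⟨I.isoRightDerivedObj (S ⋙ G) p ≪≫ e ≪≫ G.mapIso (I.isoRightDerivedObj S p).symm⟩

/-- derived functors of a composite vanish with those of the first functor -/
theorem isZero_rightDerived_comp (S : A ⥤ B) [S.Additive] [S.PreservesInjectiveObjects]
    (G : B ⥤ D) [G.Additive] [PreservesFiniteLimits G] (F : A) (p : ℕ)
    (h : ∀ q, q ≤ p → IsZero ((S.rightDerived q).obj F)) : IsZero (((S ⋙ G).rightDerived p).obj F) := by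
  obtain ⟨e⟩ := nonempty_rightDerived_comp_iso S G F p fun q hq => h q hq.le
  exact (G.map_isZero (h p le_rfl)).of_iso e

end Groth.Agent.Semipurity
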