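import Groth.Agent.Semipurity.Edge
import Groth.Agent.EtFound.LocCoh
import Groth.Agent.SiteBase.DerivedPrecomp
import Groth.Agent.SiteBase.DerivedComp
import Groth.Agent.SiteBase.Rpush

/-!
# Sections with support: sections, étale restriction, injectives
-/

set_option autoImplicit false
set_option linter.style.haveILetI false
universe u

open CategoryTheory CategoryTheory.Limits AlgebraicGeometry Opposite

namespace Groth.Agent.Semipurity

open Groth.Agent.EtFound

set_option backward.isDefEq.respectTransparency.types false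

variable {X X' U U' : Scheme.{u}}

/-- a section is killed by the unit iff it vanishes on everything lying over the open -/
theorem unit_app_eq_zero_iff (j : U ⟶ X) [IsOpenImmersion j] (F : EtCoh.Ab X) (W : X.Etale) (s : F.obj.obj (op W)) :
    (EtDual.unitApp j F).hom.app (op W) s = 0 ↔
      ∀ (V : X.Etale) (g : V ⟶ W), Set.range V.hom.base ⊆ Set.range j.base → F.obj.map g.op s = 0 := by
  haveI := jCont j
  let a : EtShriek.compEtale j ⊣ EtCoh.bc j :=
    MorphismProperty.Over.mapPullbackAdj EtCoh.etaleMP ⊤ j (inferInstanceAs (AlgebraicGeometry.Etale j)) trivial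
  let a' := a.sheafPushforwardContinuous (E := AddCommGrpCat.{u + 1}) U.smallEtaleTopology X.smallEtaleTopology
  let R := (restrPullIso j).hom.app F
  have hu : (a'.unit.app F).hom.app (op W) ≫ R.hom.app (op ((EtCoh.bc j).obj W)) =
      (EtDual.unitApp j F).hom.app (op W) :=
    congrArg (fun m : F ⟶ _ => m.hom.app (op W)) (Adjunction.unit_leftAdjointUniq_hom_app a' (EtCoh.pullPushAdj j) F)
  have hR : Function.Injective (R.hom.app (op ((EtCoh.bc j).obj W))) :=
    (ConcreteCategory.bijective_of_isIso (((sheafToPresheaf _ _).mapIso ((restrPullIso j).app F)).app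
      (op ((EtCoh.bc j).obj W))).hom).1
  have key : (EtDual.unitApp j F).hom.app (op W) s = R.hom.app (op ((EtCoh.bc j).obj W))
      (F.obj.map (a.counit.app W).op s) := (ConcreteCategory.congr_hom hu s).symm
  constructor
  · intro h V g hV
    have h0 : F.obj.map (a.counit.app W).op s = 0 := hR (key.symm.trans (h.trans (map_zero _).symm))
    let l : V.left ⟶ U := IsOpenImmersion.lift j V.hom hV
    let p : V.left ⟶ pullback W.hom j := pullback.lift g.left l
      ((MorphismProperty.Over.w g).trans (IsOpenImmersion.lift_fac j V.hom hV).symm)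
    let m : V ⟶ (EtShriek.compEtale j).obj ((EtCoh.bc j).obj W) := MorphismProperty.Over.homMk p (by
      show p ≫ pullback.snd W.hom j ≫ j = V.hom
      rw [← Category.assoc, pullback.lift_snd, IsOpenImmersion.lift_fac]) trivial
    have hm : m ≫ a.counit.app W = g := by
      apply MorphismProperty.Over.Hom.ext
      refine Eq.trans ?_ (pullback.lift_fst g.left l
        ((MorphismProperty.Over.w g).trans (IsOpenImmersion.lift_fac j V.hom hV).symm))
      show p ≫ (a.counit.app W).left = p ≫ pullback.fst W.hom j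
      congr 1
    rw [← hm, op_comp, Functor.map_comp, ConcreteCategory.comp_apply, h0, map_zero]
  · intro h
    refine key.trans ((congrArg _ (h _ _ ?_)).trans (map_zero _))
    rintro _ ⟨p, rfl⟩
    exact ⟨(pullback.snd W.hom j).base p, (Scheme.Hom.comp_apply _ _ _).symm⟩

/-- the sections with support are those killed by the unit -/
theorem exists_secSupp_iff (j : U ⟶ X) (F : EtCoh.Ab X) (W : X.Etale) (s : F.obj.obj (op W)) :
    (∃ t, (kernel.ι (EtDual.unitApp j F)).hom.app (op W) t = s) ↔ (EtDual.unitApp j F).hom.app (op W) s = 0 := by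
  let ev := sheafToPresheaf X.smallEtaleTopology AddCommGrpCat.{u + 1} ⋙
    (evaluation X.Etaleᵒᵖ AddCommGrpCat.{u + 1}).obj (op W)
  haveI : PreservesFiniteLimits ev := inferInstance
  have hex : (ShortComplex.mk _ _ (kernel.condition (EtDual.unitApp j F))).Exact :=
    ShortComplex.exact_of_f_is_kernel _ (kernelIsKernel _)
  haveI : Mono (ShortComplex.mk _ _ (kernel.condition (EtDual.unitApp j F))).f := inferInstanceAs (Mono (kernel.ι _))
  have hev := hex.map_of_mono_of_preservesKernel ev inferInstance inferInstance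
  constructor
  · rintro ⟨t, rfl⟩
    exact (ConcreteCategory.congr_hom (congrArg (fun m : kernel (EtDual.unitApp j F) ⟶ _ =>
      m.hom.app (op W)) (kernel.condition (EtDual.unitApp j F))) t).trans rfl
  · intro hs
    exact (ShortComplex.ab_exact_iff _).1 hev s hs

theorem ι_app_injective (j : U ⟶ X) (F : EtCoh.Ab X) (W : X.Etale) :
    Function.Injective ((kernel.ι (EtDual.unitApp j F)).hom.app (op W)) :=
  (AddCommGrpCat.mono_iff_injective _).1 inferInstance

/-- sections with support in an injective sheaf form an injective sheaf -/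
theorem secSupp_preservesInjectiveObjects (j : U ⟶ X) [IsOpenImmersion j] :
    (EtDual.secSupp j).PreservesInjectiveObjects := ⟨fun {I} hI => by
  haveI := jCont j
  haveI := hI
  let adj := EtCoh.pullPushAdj j
  let adj' := shriekPullAdj j
  let A := (EtCoh.push j).obj ((EtCoh.pull j).obj I)
  haveI := mono_shriek_counit j A
  let h' := adj.counit.app ((EtCoh.pull j).obj I)
  let a := Injective.factorThru ((adj'.homEquiv _ _).symm h') (adj'.counit.app A)
  have ha : adj'.counit.app A ≫ a = (adj'.homEquiv _ _).symm h' := Injective.comp_factorThru _ _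
  have h1 : (EtCoh.pull j).map a = h' := by
    apply (adj'.homEquiv _ _).symm.injective
    refine Eq.trans ?_ ha
    exact (adj'.homEquiv_counit _ _ _).trans (adj'.counit.naturality a)
  have h2 : a ≫ adj.unit.app I = 𝟙 A := by
    refine (adj.unit.naturality a).trans ?_
    simp only [Functor.comp_map]
    rw [h1]
    exact adj.right_triangle_components _
  let r : I ⟶ kernel (EtDual.unitApp j I) := kernel.lift _ (𝟙 I - EtDual.unitApp j I ≫ a) (by
    rw [Preadditive.sub_comp, Category.assoc, h2, Category.id_comp, Category.comp_id, sub_self])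
  refine (Retract.mk (kernel.ι (EtDual.unitApp j I)) r ?_).injective
  rw [← cancel_mono (kernel.ι (EtDual.unitApp j I)), Category.assoc, kernel.lift_ι, Preadditive.comp_sub,
    Category.comp_id, ← Category.assoc, kernel.condition, zero_comp, sub_zero, Category.id_comp]⟩

/-- sections of injective sheaves extend from opens -/
theorem surjective_map_of_injective (j : U ⟶ X) [IsOpenImmersion j] [EtShriek.JCont j] (I : EtCoh.Ab X) [Injective I]
    (g : (EtShriek.compEtale j).obj (EtCoh.top U) ⟶ EtCoh.top X) : Function.Surjective (I.obj.map g.op) := by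
  let adj := EtCoh.pullPushAdj j
  let adj' := shriekPullAdj j
  let A := (EtCoh.push j).obj ((EtCoh.pull j).obj I)
  haveI := mono_shriek_counit j A
  let h' := adj.counit.app ((EtCoh.pull j).obj I)
  let a := Injective.factorThru ((adj'.homEquiv _ _).symm h') (adj'.counit.app A)
  have ha : adj'.counit.app A ≫ a = (adj'.homEquiv _ _).symm h' := Injective.comp_factorThru _ _
  have h1 : (EtCoh.pull j).map a = h' := by
    apply (adj'.homEquiv _ _).symm.injective
    refine Eq.trans ?_ ha
    exact (adj'.homEquiv_counit _ _ _).trans (adj'.counit.naturality a)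
  have h2 : a ≫ adj.unit.app I = 𝟙 A := by
    refine (adj.unit.naturality a).trans ?_
    simp only [Functor.comp_map]
    rw [h1]
    exact adj.right_triangle_components _
  let b : EtShriek.compEtale j ⊣ EtCoh.bc j :=
    MorphismProperty.Over.mapPullbackAdj EtCoh.etaleMP ⊤ j (inferInstanceAs (AlgebraicGeometry.Etale j)) trivial
  let b' := b.sheafPushforwardContinuous (E := AddCommGrpCat.{u + 1}) U.smallEtaleTopology X.smallEtaleTopology
  let R := (restrPullIso j).hom.app I
  have hu : (b'.unit.app I).hom.app (op (EtCoh.top X)) ≫ R.hom.app (op ((EtCoh.bc j).obj (EtCoh.top X))) =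
      (adj.unit.app I).hom.app (op (EtCoh.top X)) :=
    congrArg (fun m : I ⟶ _ => m.hom.app (op (EtCoh.top X))) (Adjunction.unit_leftAdjointUniq_hom_app b' adj I)
  have hR : Function.Injective (R.hom.app (op ((EtCoh.bc j).obj (EtCoh.top X)))) :=
    (ConcreteCategory.bijective_of_isIso (((sheafToPresheaf _ _).mapIso ((restrPullIso j).app I)).app
      (op ((EtCoh.bc j).obj (EtCoh.top X)))).hom).1
  let i : (EtShriek.compEtale j).obj (EtCoh.top U) ≅ (EtShriek.compEtale j).obj ((EtCoh.bc j).obj (EtCoh.top X)) :=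
    (EtShriek.compEtale j).mapIso (EtCore.bcTopIso j).symm
  have hg : g = i.hom ≫ b.counit.app (EtCoh.top X) := (EtCore.topIsTerminal X).hom_ext _ _
  have hc : Function.Surjective (I.obj.map (b.counit.app (EtCoh.top X)).op) := fun t => by
    refine ⟨a.hom.app (op (EtCoh.top X)) (R.hom.app (op ((EtCoh.bc j).obj (EtCoh.top X))) t), hR ?_⟩
    refine Eq.trans ?_ (ConcreteCategory.congr_hom
      (congrArg (fun m : A ⟶ A => m.hom.app (op (EtCoh.top X))) h2) (R.hom.app _ t))
    exact ConcreteCategory.congr_hom hu _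
  rw [hg, op_comp, Functor.map_comp]
  intro t
  obtain ⟨t', rfl⟩ := (ConcreteCategory.bijective_of_isIso (I.obj.map i.hom.op)).2 t
  obtain ⟨s, rfl⟩ := hc t'
  exact ⟨s, ConcreteCategory.comp_apply _ _ _⟩

/-- evaluation of sheaves at an étale scheme -/
noncomputable abbrev evalAt (W : X.Etale) : EtCoh.Ab X ⥤ AddCommGrpCat.{u + 1} :=
  sheafToPresheaf X.smallEtaleTopology AddCommGrpCat.{u + 1} ⋙
    (evaluation X.Etaleᵒᵖ AddCommGrpCat.{u + 1}).obj (op W)

variable (e : X' ⟶ X) [AlgebraicGeometry.Etale e] [EtShriek.JCont e]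

/-- restriction along an étale morphism is exact and preserves injectives -/
theorem restr_exact : PreservesFiniteLimits (EtShriek.restrAlong e) ∧
    PreservesFiniteColimits (EtShriek.restrAlong e) ∧ (EtShriek.restrAlong e).Additive ∧
    (EtShriek.restrAlong e).PreservesInjectiveObjects := by
  haveI := pull_preservesFiniteLimits e
  let i := restrPullIso e
  haveI h1 : PreservesFiniteLimits (EtShriek.restrAlong e) := preservesFiniteLimits_of_natIso i.symm
  haveI h2 : PreservesFiniteColimits (EtShriek.restrAlong e) := preservesFiniteColimits_of_natIso i.symm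
  refine ⟨h1, h2, Functor.additive_of_preserves_binary_products _, ⟨fun {I} hI => ?_⟩⟩
  haveI := hI
  haveI := preservesMono_extZero_etale e
  exact Injective.injective_of_adjoint (EtShriek.extZeroAdj e) I

variable (j : U ⟶ X) [IsOpenImmersion j] (j' : U' ⟶ X') [IsOpenImmersion j']
  (hU' : Set.range j'.base = e.base ⁻¹' Set.range j.base)

include hU' in
/-- the unit kills the same sections before and after étale restriction -/
theorem unit_restr_eq_zero_iff (F : EtCoh.Ab X) (W : X'.Etale) (s : ((EtShriek.restrAlong e).obj F).obj.obj (op W)) :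
    (EtDual.unitApp j' ((EtShriek.restrAlong e).obj F)).hom.app (op W) s = 0 ↔
      (EtDual.unitApp j F).hom.app (op ((EtShriek.compEtale e).obj W)) s = 0 := by
  rw [unit_app_eq_zero_iff j', unit_app_eq_zero_iff j]
  constructor
  · intro h V g hV
    let g₀ : V.left ⟶ W.left := g.left
    have hw : g₀ ≫ W.hom ≫ e = V.hom := MorphismProperty.Over.w g
    haveI : AlgebraicGeometry.Etale ((g₀ ≫ W.hom) ≫ e) := by
      rw [Category.assoc, hw]; exact V.prop
    haveI : AlgebraicGeometry.Etale (g₀ ≫ W.hom) := AlgebraicGeometry.Etale.of_comp (g₀ ≫ W.hom) e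
    let V' : X'.Etale := Scheme.Etale.mk (g₀ ≫ W.hom)
    let g' : V' ⟶ W := MorphismProperty.Over.homMk g₀ rfl trivial
    let i : (EtShriek.compEtale e).obj V' ≅ V :=
      MorphismProperty.Over.isoMk (Iso.refl _) ((Category.id_comp _).trans (hw.symm.trans (Category.assoc _ _ _).symm))
    have hg : (EtShriek.compEtale e).map g' = i.hom ≫ g := MorphismProperty.Over.Hom.ext (Category.id_comp _).symm
    have h0 := h V' g' (by
      rintro _ ⟨v, rfl⟩
      rw [hU']
      have hv : V.hom.base v ∈ Set.range j.base := hV ⟨v, rfl⟩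
      show e.base ((g₀ ≫ W.hom).base v) ∈ Set.range j.base
      refine Set.mem_of_eq_of_mem ?_ hv
      refine (Scheme.Hom.comp_apply _ _ _).symm.trans ?_
      exact congrArg (fun k : V.left ⟶ X => k.base v) ((Category.assoc _ _ _).trans hw))
    have h1 : F.obj.map ((EtShriek.compEtale e).map g').op s = 0 := h0
    rw [hg, op_comp, Functor.map_comp, ConcreteCategory.comp_apply] at h1
    exact (ConcreteCategory.bijective_of_isIso (F.obj.map i.hom.op)).1 (h1.trans (map_zero _).symm)
  · intro h V g hV
    refine h _ ((EtShriek.compEtale e).map g) ?_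
    rintro _ ⟨v, rfl⟩
    have hv : V.hom.base v ∈ e.base ⁻¹' Set.range j.base := hU' ▸ hV ⟨v, rfl⟩
    exact Set.mem_of_eq_of_mem (Scheme.Hom.comp_apply V.hom e v) hv

include hU' in
/-- restricted sections with support are killed by the restricted unit -/
theorem restr_ι_comp_unit (F : EtCoh.Ab X) :
    (EtShriek.restrAlong e).map (kernel.ι (EtDual.unitApp j F)) ≫
      EtDual.unitApp j' ((EtShriek.restrAlong e).obj F) = 0 := by
  refine Sheaf.hom_ext (NatTrans.ext (funext fun W => AddCommGrpCat.ext fun t => ?_))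
  refine (unit_restr_eq_zero_iff e j j' hU' F W.unop
    ((kernel.ι (EtDual.unitApp j F)).hom.app (op ((EtShriek.compEtale e).obj W.unop)) t)).2 ?_
  exact (exists_secSupp_iff j F _ _).1 ⟨t, rfl⟩

/-- the comparison of sections with support -/
noncomputable def suppMap (F : EtCoh.Ab X) :
    (EtShriek.restrAlong e).obj (kernel (EtDual.unitApp j F)) ⟶
      kernel (EtDual.unitApp j' ((EtShriek.restrAlong e).obj F)) :=
  kernel.lift _ _ (restr_ι_comp_unit e j j' hU' F)

theorem suppMap_ι (F : EtCoh.Ab X) :
    suppMap e j j' hU' F ≫ kernel.ι (EtDual.unitApp j' ((EtShriek.restrAlong e).obj F)) =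
      (EtShriek.restrAlong e).map (kernel.ι (EtDual.unitApp j F)) :=
  kernel.lift_ι _ _ _

theorem suppMap_apply (F : EtCoh.Ab X) (W : X'.Etale)
    (t : (kernel (EtDual.unitApp j F)).obj.obj (op ((EtShriek.compEtale e).obj W))) :
    (kernel.ι (EtDual.unitApp j' ((EtShriek.restrAlong e).obj F))).hom.app (op W)
        ((suppMap e j j' hU' F).hom.app (op W) t) =
      (kernel.ι (EtDual.unitApp j F)).hom.app (op ((EtShriek.compEtale e).obj W)) t :=
  ConcreteCategory.congr_hom (congrArg
    (fun m : (EtShriek.restrAlong e).obj (kernel (EtDual.unitApp j F)) ⟶ (EtShriek.restrAlong e).obj F =>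
      m.hom.app (op W)) (suppMap_ι e j j' hU' F)) t

theorem suppMap_app_bijective (F : EtCoh.Ab X) (W : X'.Etale) :
    Function.Bijective ((suppMap e j j' hU' F).hom.app (op W)) := by
  refine ⟨fun a b h => ι_app_injective j F _ ((suppMap_apply e j j' hU' F W a).symm.trans
    ((congrArg _ h).trans (suppMap_apply e j j' hU' F W b))), fun t => ?_⟩
  obtain ⟨t₀, ht₀⟩ := (exists_secSupp_iff j F _ _).2 ((unit_restr_eq_zero_iff e j j' hU' F W
    ((kernel.ι (EtDual.unitApp j' ((EtShriek.restrAlong e).obj F))).hom.app (op W) t)).1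
      ((exists_secSupp_iff j' _ _ _).1 ⟨t, rfl⟩))
  exact ⟨t₀, ι_app_injective j' _ _ ((suppMap_apply e j j' hU' F W t₀).trans ht₀)⟩

theorem isIso_suppMap (F : EtCoh.Ab X) : IsIso (suppMap e j j' hU' F) := by
  haveI : ∀ W, IsIso ((suppMap e j j' hU' F).hom.app W) := fun W =>
    (ConcreteCategory.isIso_iff_bijective _).2 (suppMap_app_bijective e j j' hU' F W.unop)
  haveI : IsIso (suppMap e j j' hU' F).hom := NatIso.isIso_of_isIso_app _
  haveI : IsIso ((sheafToPresheaf _ _).map (suppMap e j j' hU' F)) := ‹IsIso (suppMap e j j' hU' F).hom›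
  exact isIso_of_reflects_iso (suppMap e j j' hU' F) (sheafToPresheaf _ _)

/-- naturality of comparisons of subobjects -/
theorem natural_of_subobjects {C D : Type*} [Category* C] [Category* D] (R : C ⥤ D) {F G KF KG : C}
    {KF' KG' : D} {ιF : KF ⟶ F} {ιG : KG ⟶ G} {ιF' : KF' ⟶ R.obj F} {ιG' : KG' ⟶ R.obj G} [Mono ιG']
    {φF : R.obj KF ⟶ KF'} {φG : R.obj KG ⟶ KG'} (hF : φF ≫ ιF' = R.map ιF) (hG : φG ≫ ιG' = R.map ιG)
    {a : F ⟶ G} {s : KF ⟶ KG} {s' : KF' ⟶ KG'} (hs : s ≫ ιG = ιF ≫ a) (hs' : s' ≫ ιG' = ιF' ≫ R.map a) :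
    R.map s ≫ φG = φF ≫ s' := by
  rw [← cancel_mono ιG', Category.assoc, hG, Category.assoc, hs', ← Category.assoc, hF, ← R.map_comp, ← R.map_comp,
    hs]

theorem secSupp_map_ι {Y V : Scheme.{u}} (k : V ⟶ Y) {F G : EtCoh.Ab Y} (a : F ⟶ G) :
    (EtDual.secSupp k).map a ≫ kernel.ι (EtDual.unitApp k G) = kernel.ι (EtDual.unitApp k F) ≫ a :=
  kernel.lift_ι _ _ _

include hU' in
/-- sections with support commute with étale restriction -/
theorem nonempty_restr_secSupp_iso :
    Nonempty (EtDual.secSupp j ⋙ EtShriek.restrAlong e ≅ EtShriek.restrAlong e ⋙ EtDual.secSupp j') :=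
  ⟨NatIso.ofComponents (fun F => @asIso _ _ _ _ (suppMap e j j' hU' F) (isIso_suppMap e j j' hU' F))
    fun {F G} a => natural_of_subobjects (EtShriek.restrAlong e) (suppMap_ι e j j' hU' F) (suppMap_ι e j j' hU' G)
      (secSupp_map_ι j a) (secSupp_map_ι j' ((EtShriek.restrAlong e).map a))⟩

include hU' in
/-- local cohomology commutes with étale restriction -/
theorem nonempty_locCoh_restr_iso (F : EtCoh.Ab X) (p : ℕ) :
    Nonempty ((EtShriek.restrAlong e).obj ((EtDual.locCoh j p).obj F) ≅
      (EtDual.locCoh j' p).obj ((EtShriek.restrAlong e).obj F)) := by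
  obtain ⟨h1, h2, h3, h4⟩ := restr_exact e
  obtain ⟨i⟩ := nonempty_restr_secSupp_iso e j j' hU'
  exact ⟨(SiteBase.rightDerivedCompIso (EtDual.secSupp j) (EtShriek.restrAlong e) p).symm.app F ≪≫
    (SiteBase.rightDerivedCongr i p).app F ≪≫
    (SiteBase.rightDerivedPrecompIso (EtShriek.restrAlong e) (EtDual.secSupp j') p).app F⟩

end Groth.Agent.Semipurity
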